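import Cfsg.Agent.Lib.PSolvable.Core
import Cfsg.Agent.Lib.Fitting.Basic
import Cfsg.Agent.Lib.Blocks.PrincipalQuot
import Cfsg.Agent.Lib.Blocks.RegPart
import Cfsg.Agent.Lib.Blocks.BrauerFeit
import Cfsg.Agent.Lib.Blocks.PairConj
import Cfsg.Agent.Lib.Char.Kernel

/-!
# A transitive abelian Sylow subgroup and `p`-solvable pairs

If a Sylow `p`-subgroup is elementary abelian with all non-identity elements conjugate, all
centralizers of elements of order `p` are `p`-nilpotent and all pairs of elements of order `p`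
generate `p`-solvable subgroups, then a simple group has `p = 2`.

For `x` of order `p`, at most one of the products `x * z ^ j` (`0 < j < p`) is `p`-regular, so at most
the `(p - 1)`-th part of the class gives a regular product. The expansion of the indicator of the
regular elements only involves the principal block, on which `χ (x * u) = χ x`, and this gives a
larger count.
-/

set_option autoImplicit false
set_option linter.unusedSectionVars false

namespace CfsgLib.PairPSolvable

open Cfsg CfsgLib.Blocks
open scoped ComplexConjugate CfsgLib.Char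

variable {p : ℕ} [Fact p.Prime]

/-- Two generators of order `p` with abelian Sylow subgroups: a `p`-group modulo `O_{p'}`. -/
theorem quotient_isPGroup {H : Type*} [Group H] [Finite H] (hsol : IsPSolvable p H)
    (hab : ∀ S : Sylow p H, ∀ a ∈ (S : Subgroup H), ∀ b ∈ (S : Subgroup H), a * b = b * a)
    {x y : H} (hx : x ^ p = 1) (hy : y ^ p = 1) (hgen : Subgroup.closure ({x, y} : Set H) = ⊤)
    [(pPrimeCore p H).Normal] : IsPGroup p (H ⧸ pPrimeCore p H) := by
  set f := QuotientGroup.mk' (pPrimeCore p H) with hf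
  have hsurj : Function.Surjective f := QuotientGroup.mk'_surjective _
  have hO : pPrimeCore p (H ⧸ pPrimeCore p H) = ⊥ :=
    PSolvable.pPrimeCore_eq_bot_of_ker hsurj (QuotientGroup.ker_mk' _)
  have hC := PSolvable.centralizer_pCore_le (PSolvable.isPSolvable_of_surjective f hsurj hsol) hO
  set R := pCore p (H ⧸ pPrimeCore p H) with hR
  haveI : R.Normal := Fitting.pCore_normal p
  have hRp : IsPGroup p R := Fitting.pCore_isPGroup p
  have hall : ∀ T : Sylow p (H ⧸ pPrimeCore p H), (T : Subgroup (H ⧸ pPrimeCore p H)) ≤ R := by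
    intro T
    obtain ⟨S, rfl⟩ := Sylow.mapSurjective_surjective hsurj p T
    intro u hu
    have hle : R ≤ ((Sylow.mapSurjective hsurj S : Sylow p (H ⧸ pPrimeCore p H)) :
        Subgroup (H ⧸ pPrimeCore p H)) := hRp.le_sylow_of_normal _
    refine hC (Subgroup.mem_centralizer_iff.mpr fun r hr => ?_)
    have hr' := hle hr
    rw [Sylow.coe_mapSurjective, Subgroup.mem_map] at hu hr'
    obtain ⟨a, ha, rfl⟩ := hu
    obtain ⟨b, hb, rfl⟩ := hr'
    rw [← map_mul, ← map_mul, hab S b hb a ha]
  have hmem : ∀ u : H, u ^ p = 1 → f u ∈ R := by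
    intro u hu
    have h : IsPGroup p (Subgroup.zpowers (f u)) := by
      obtain ⟨k, -, hk⟩ := (Nat.dvd_prime_pow Fact.out).mp
        (orderOf_dvd_of_pow_eq_one (x := f u) (n := p ^ 1) (by rw [pow_one, ← map_pow, hu, map_one]))
      exact IsPGroup.of_card (n := k) (by rw [Nat.card_zpowers, hk])
    obtain ⟨T, hT⟩ := h.exists_le_sylow
    exact hall T (hT (Subgroup.mem_zpowers _))
  have htop : R = ⊤ := by
    rw [eq_top_iff, ← Subgroup.map_top_of_surjective f hsurj, ← hgen, MonoidHom.map_closure,
      Subgroup.closure_le]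
    rintro _ ⟨u, hu, rfl⟩
    rcases hu with rfl | rfl
    · exact hmem _ hx
    · exact hmem _ hy
  rw [htop] at hRp
  exact hRp.of_equiv Subgroup.topEquiv

variable {G : Type*} [Group G] [Finite G]

/-- At most one power of `y` gives a `p`-regular product with `x`. -/
theorem regular_power_unique
    (hab : ∀ S : Sylow p G, ∀ a ∈ (S : Subgroup G), ∀ b ∈ (S : Subgroup G), a * b = b * a)
    {x y : G} (hx : orderOf x = p) (hy : orderOf y = p)
    (hsol : IsPSolvable p ↥(Subgroup.closure ({x, y} : Set G))) {j k : ℕ} (hj : j < p) (hk : k < p)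
    (h1 : IsPRegular p (x * y ^ j)) (h2 : IsPRegular p (x * y ^ k)) : j = k := by
  set H := Subgroup.closure ({x, y} : Set G) with hH
  let a : H := ⟨x, Subgroup.subset_closure (Set.mem_insert _ _)⟩
  let b : H := ⟨y, Subgroup.subset_closure (Set.mem_insert_of_mem _ rfl)⟩
  have habH : ∀ S : Sylow p H, ∀ u ∈ (S : Subgroup H), ∀ v ∈ (S : Subgroup H),
      u * v = v * u := by
    intro S u hu v hv
    obtain ⟨T, hT⟩ := (S.isPGroup'.map H.subtype).exists_le_sylow
    exact Subtype.ext (hab T _ (hT (Subgroup.mem_map_of_mem _ hu)) _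
      (hT (Subgroup.mem_map_of_mem _ hv)))
  have hoa : orderOf a = p := (Subgroup.orderOf_mk x _).trans hx
  have hob : orderOf b = p := (Subgroup.orderOf_mk y _).trans hy
  haveI := Transfer.pPrimeCore_normal p H
  have hgen : Subgroup.closure ({a, b} : Set H) = ⊤ := by
    apply Subgroup.map_injective H.subtype_injective
    rw [MonoidHom.map_closure, ← MonoidHom.range_eq_map, Subgroup.range_subtype, Set.image_pair]
    rfl
  have hQ := quotient_isPGroup hsol habH (x := a) (y := b) (hoa ▸ pow_orderOf_eq_one a)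
    (hob ▸ pow_orderOf_eq_one b) hgen
  set f := QuotientGroup.mk' (pPrimeCore p H) with hf
  have hreg : ∀ u : H, IsPRegular p (u : G) → f u = 1 := by
    intro u hu
    obtain ⟨m, hm⟩ := IsPGroup.iff_orderOf.mp hQ (f u)
    rw [← orderOf_eq_one_iff, hm]
    rcases Nat.eq_zero_or_pos m with h | h
    · rw [h, pow_zero]
    · refine absurd ?_ hu
      rw [Subgroup.orderOf_coe]
      exact ((dvd_pow_self p h.ne').trans (hm ▸ dvd_refl _)).trans (orderOf_map_dvd f u)
  have hfb : orderOf (f b) = p := by
    refine orderOf_eq_prime (by rw [← map_pow, (hob ▸ pow_orderOf_eq_one b : b ^ p = 1), map_one]) fun h => ?_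
    have hb : b ∈ pPrimeCore p H := (QuotientGroup.eq_one_iff b).mp h
    have : p ∣ Nat.card (pPrimeCore p H) := by
      have := orderOf_dvd_natCard (⟨b, hb⟩ : pPrimeCore p H)
      rwa [Subgroup.orderOf_mk, hob] at this
    exact not_dvd_card_pPrimeCore (Fact.out : p.Prime) this
  have e1 : f a * f b ^ j = 1 := by
    rw [← map_pow, ← map_mul]
    exact hreg (a * b ^ j) (by simpa [a, b] using h1)
  have e2 : f a * f b ^ k = 1 := by
    rw [← map_pow, ← map_mul]
    exact hreg (a * b ^ k) (by simpa [a, b] using h2)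
  exact pow_injOn_Iio_orderOf (Set.mem_Iio.mpr (hfb.symm ▸ hj)) (Set.mem_Iio.mpr (hfb.symm ▸ hk))
    (mul_left_cancel (e1.trans e2.symm))

/-- The elements of order `p`. -/
noncomputable def ordP (p : ℕ) (G : Type*) [Group G] [Fintype G] : Finset G :=
  open Classical in Finset.univ.filter fun z => orderOf z = p

theorem mem_ordP [Fintype G] {z : G} : z ∈ ordP p G ↔ orderOf z = p := by simp [ordP]

theorem card_regular_products [Fintype G] [DecidableEq G]
    (hab : ∀ S : Sylow p G, ∀ a ∈ (S : Subgroup G), ∀ b ∈ (S : Subgroup G), a * b = b * a)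
    {x : G} (hx : orderOf x = p)
    (hsol : ∀ y : G, orderOf y = p → IsPSolvable p ↥(Subgroup.closure ({x, y} : Set G)))
    [DecidablePred fun g : G => IsPRegular p g] :
    (p - 1) * ((ordP p G).filter fun z => IsPRegular p (x * z)).card ≤ (ordP p G).card := by
  have hp : p.Prime := Fact.out
  have hpow : ∀ j ∈ Finset.Icc 1 (p - 1),
      ((ordP p G).filter fun z => IsPRegular p (x * z ^ j)).card =
        ((ordP p G).filter fun z => IsPRegular p (x * z)).card := by
    intro j hj
    obtain ⟨hj1, hj2⟩ := Finset.mem_Icc.mp hj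
    have hjp : ¬ p ∣ j := fun h => by have := Nat.le_of_dvd (by omega) h; omega
    obtain ⟨i, -, hi⟩ := Nat.exists_mul_mod_eq_one_of_coprime
      ((hp.coprime_iff_not_dvd.mpr hjp).symm) hp.one_lt
    have hinv : ∀ z : G, orderOf z = p → z ^ (j * i) = z := fun z hz => by
      rw [← pow_mod_orderOf, hz, hi, pow_one]
    have hord : ∀ z : G, ∀ m : ℕ, orderOf z = p → ¬ p ∣ m → orderOf (z ^ m) = p := by
      intro z m hz hm
      rw [Nat.Coprime.orderOf_pow (hz.symm ▸ (hp.coprime_iff_not_dvd.mpr hm)), hz]
    have hip : ¬ p ∣ i := fun h => by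
      rw [Nat.mod_eq_zero_of_dvd (dvd_mul_of_dvd_right h j)] at hi
      omega
    refine Finset.card_nbij' (fun z => z ^ j) (fun z => z ^ i) ?_ ?_ ?_ ?_
    · intro z hz
      simp only [Finset.coe_filter, Set.mem_ofPred_eq, mem_ordP] at hz ⊢
      exact ⟨hord z j hz.1 hjp, hz.2⟩
    · intro z hz
      simp only [Finset.coe_filter, Set.mem_ofPred_eq, mem_ordP] at hz ⊢
      refine ⟨hord z i hz.1 hip, ?_⟩
      rw [← pow_mul, mul_comm i j, hinv z hz.1]
      exact hz.2
    · intro z hz
      simp only [Finset.coe_filter, Set.mem_ofPred_eq, mem_ordP] at hz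
      simp only [← pow_mul]
      exact hinv z hz.1
    · intro z hz
      simp only [Finset.coe_filter, Set.mem_ofPred_eq, mem_ordP] at hz
      simp only [← pow_mul]
      rw [mul_comm]
      exact hinv z hz.1
  have hone : ∀ z ∈ ordP p G,
      ((Finset.Icc 1 (p - 1)).filter fun j => IsPRegular p (x * z ^ j)).card ≤ 1 := by
    intro z hz
    refine Finset.card_le_one.mpr fun j hj k hk => ?_
    simp only [Finset.mem_filter, Finset.mem_Icc] at hj hk
    have := hp.one_lt
    exact regular_power_unique hab hx (mem_ordP.mp hz) (hsol z (mem_ordP.mp hz)) (by omega) (by omega)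
      hj.2 hk.2
  calc (p - 1) * ((ordP p G).filter fun z => IsPRegular p (x * z)).card
      = ∑ j ∈ Finset.Icc 1 (p - 1), ((ordP p G).filter fun z => IsPRegular p (x * z ^ j)).card := by
        rw [Finset.sum_congr rfl hpow, Finset.sum_const, Nat.card_Icc, smul_eq_mul]
        congr 1
    _ = ∑ z ∈ ordP p G, ((Finset.Icc 1 (p - 1)).filter fun j => IsPRegular p (x * z ^ j)).card := by
        simp only [Finset.card_filter]
        exact Finset.sum_comm
    _ ≤ ∑ _z ∈ ordP p G, 1 := Finset.sum_le_sum hone
    _ = _ := (Finset.card_eq_sum_ones _).symm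

/-- In a `p`-nilpotent centralizer whose Sylow order is that of `G` the regular elements form
`O_{p'}`. -/
theorem regular_centralizer (P : Sylow p G) {z : G}
    (hdvd : Nat.card P ∣ Nat.card (Subgroup.centralizer ({z} : Set G)))
    (hnpc : HasNormalPComplement p ↥(Subgroup.centralizer ({z} : Set G))) :
    ∃ N : Subgroup ↥(Subgroup.centralizer ({z} : Set G)),
      N ≤ pPrimeCore p ↥(Subgroup.centralizer ({z} : Set G)) ∧
      (∀ r : ↥(Subgroup.centralizer ({z} : Set G)), IsPRegular p (r : G) ↔ r ∈ N) ∧
      Nat.card N * Nat.card P = Nat.card (Subgroup.centralizer ({z} : Set G)) := by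
  have hp : p.Prime := Fact.out
  obtain ⟨T, N, hN, hcompl⟩ := hnpc
  have hmul : Nat.card N * Nat.card (T : Subgroup _) = Nat.card (Subgroup.centralizer ({z} : Set G)) :=
    Subgroup.IsComplement'.card_mul_card hcompl
  have hT : Nat.card (T : Subgroup ↥(Subgroup.centralizer ({z} : Set G))) = Nat.card P := by
    have h1 : Nat.card P = p ^ (Nat.card G).factorization p := P.card_eq_multiplicity
    have h2 : Nat.card (T : Subgroup ↥(Subgroup.centralizer ({z} : Set G))) =
        p ^ (Nat.card (Subgroup.centralizer ({z} : Set G))).factorization p := T.card_eq_multiplicity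
    rw [h2, h1]
    congr 1
    refine le_antisymm
      (Nat.factorization_le_iff_dvd Nat.card_pos.ne' Nat.card_pos.ne' |>.mpr
        (Subgroup.card_subgroup_dvd_card _) p) ?_
    exact (hp.pow_dvd_iff_le_factorization Nat.card_pos.ne').mp (h1 ▸ hdvd)
  have hidx : N.index = Nat.card (T : Subgroup ↥(Subgroup.centralizer ({z} : Set G))) := hcompl.symm.index_eq_card
  have hcop : (Nat.card N).Coprime p := by
    refine (hp.coprime_iff_not_dvd.mpr fun hd => ?_).symm
    have h := T.not_dvd_index
    rw [hcompl.index_eq_card] at h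
    exact h hd
  refine ⟨N, Transfer.le_pPrimeCore hN hcop, fun r => ⟨fun hr => ?_, fun hr => ?_⟩, hT ▸ hmul⟩
  · haveI := hN
    obtain ⟨m, hm⟩ := IsPGroup.iff_card.mp T.isPGroup'
    rw [IsPRegular, Subgroup.orderOf_coe] at hr
    obtain ⟨i, hi⟩ := exists_pow_eq_self_of_coprime
      (Nat.Coprime.pow_left m (hp.coprime_iff_not_dvd.mpr hr))
    rw [← hi, ← hm, ← hidx]
    exact pow_mem (Subgroup.pow_index_mem N r) i
  · intro hd
    rw [Subgroup.orderOf_coe, ← Subgroup.orderOf_mk r hr] at hd
    exact (hp.coprime_iff_not_dvd.mp hcop.symm) (hd.trans (orderOf_dvd_natCard _))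

end CfsgLib.PairPSolvable
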