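import Cfsg.Agent.Lib.PairPSolvable.Core
import Cfsg.Agent.Lib.Transfer.ThompsonComplement

/-!
# The count through the principal block
-/

set_option autoImplicit false
set_option linter.unusedSectionVars false

namespace CfsgLib.PairPSolvable

open Cfsg CfsgLib.Blocks
open scoped ComplexConjugate CfsgLib.Char

variable {p : ℕ} [Fact p.Prime] {G : Type*} [Group G]

/-- Degree and value at `x` of a non-trivial character that is constant on `P \ {1}`. -/
theorem exists_value [Fintype G] [IsSimpleGroup G] {P : Subgroup G} (hPcomm : IsMulCommutative P)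
    (hP : P ≠ ⊥) {x : G} (hx : x ≠ 1) (χ : IrrCharacter G) (hne : χ ≠ trivIrr G)
    (hc : ∀ u ∈ P, u ≠ 1 → (χ : G → ℂ) u = (χ : G → ℂ) x) :
    ∃ (a : ℤ) (d b : ℕ), (χ : G → ℂ) x = a ∧ (χ : G → ℂ) 1 = d ∧ 0 < d ∧ 0 < b ∧
      (d : ℤ) = a + b * (Nat.card P : ℤ) := by
  classical
  letI : Fintype P := Fintype.ofFinite P
  letI : CommGroup P := { (inferInstance : Group P) with mul_comm := hPcomm.is_comm.comm }
  obtain ⟨u₀, hu₀⟩ := Subgroup.ne_bot_iff_exists_ne_one.mp hP
  haveI : HasEnoughRootsOfUnity ℂ (Monoid.exponent P) := inferInstance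
  obtain ⟨φ, hφ⟩ := CommGroup.exists_apply_ne_one_of_hasEnoughRootsOfUnity P ℂ (a := u₀) hu₀
  have hlam : IsCharacter P (fun u => (φ u : ℂ)) := Char.isCharacter_monoidHom φ
  obtain ⟨m, hm⟩ := Char.exists_nat_classInner hlam
    (Char.isCharacter_restrict P (Char.isCharacter_of_isIrr χ.2))
  obtain ⟨d, hd, hd1⟩ := Char.exists_nat_degree_irr χ.2
  have hsum : ∑ u : P, (φ u : ℂ) = 0 :=
    sum_hom_units_eq_zero ((Units.coeHom ℂ).comp φ) fun h => hφ (Units.ext (DFunLike.congr_fun h u₀))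
  have e : (Nat.card P : ℂ) * m = conj ((χ : G → ℂ) 1) - conj ((χ : G → ℂ) x) := by
    rw [← hm, classInner, ← mul_assoc, mul_inv_cancel₀ (Nat.cast_ne_zero.mpr Nat.card_pos.ne'), one_mul]
    have : ∀ u : P, (φ u : ℂ) * conj ((χ : G → ℂ) (u : G)) = (φ u : ℂ) * conj ((χ : G → ℂ) x) +
        if u = 1 then conj ((χ : G → ℂ) 1) - conj ((χ : G → ℂ) x) else 0 := by
      intro u
      by_cases h : u = 1
      · simp [h]
      · rw [if_neg h, add_zero, hc u u.2 fun h' => h (Subtype.ext h')]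
    rw [Finset.sum_congr rfl fun u _ => this u, Finset.sum_add_distrib, ← Finset.sum_mul, hsum, zero_mul,
      zero_add, Finset.sum_ite_eq', if_pos (Finset.mem_univ _)]
  have e' : (χ : G → ℂ) x = ((d : ℤ) - (m : ℤ) * (Nat.card P : ℤ) : ℤ) := by
    have := congrArg conj e
    simp only [map_mul, map_sub, Complex.conj_conj, map_natCast, hd1] at this
    push_cast
    linear_combination this
  refine ⟨_, d, m, e', hd1, hd, Nat.pos_of_ne_zero fun h => ?_, by ring⟩
  obtain ⟨K, hKn, hK, -⟩ := Char.exists_kernel (Char.isCharacter_of_isIrr χ.2)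
  have hxK : x ∈ K := (hK x).mpr (by rw [e', h, hd1]; simp)
  have hKtop : K = ⊤ := (hKn.eq_bot_or_eq_top).resolve_left fun hb => hx (Subgroup.mem_bot.mp (hb ▸ hxK))
  have hconst : (χ : G → ℂ) = fun _ => (d : ℂ) := funext fun g => ((hK g).mp (hKtop ▸ Subgroup.mem_top g)).trans hd1
  have h1 : classInner (χ : G → ℂ) (trivIrr G : G → ℂ) = (d : ℂ) := by
    rw [hconst]
    simp only [classInner, trivIrr, map_one, mul_one, Finset.sum_const, Finset.card_univ, nsmul_eq_mul]
    rw [Nat.card_eq_fintype_card, ← mul_assoc, inv_mul_cancel₀ (Nat.cast_ne_zero.mpr Fintype.card_ne_zero),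
      one_mul]
  rw [Char.classInner_coe, if_neg hne] at h1
  exact hd.ne' (Nat.cast_eq_zero.mp h1.symm)

/-- The arithmetic at the end: the cubes are too small. -/
theorem cubes_lt {ι : Type*} (S : Finset ι) (q : ℕ) (hq : 3 ≤ q) (a : ι → ℤ) (d b : ι → ℕ)
    (hd : ∀ i ∈ S, 0 < d i) (hb : ∀ i ∈ S, 0 < b i) (hdeg : ∀ i ∈ S, (d i : ℤ) = a i + b i * q)
    (hsq : ∑ i ∈ S, (a i) ^ 2 = (q : ℤ) - 1) (hcol : ∑ i ∈ S, a i * d i = -1) :
    ∑ i ∈ S, ((a i : ℝ) ^ 3 / d i) < (q : ℝ) / 2 - 1 := by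
  have hq' : (3 : ℝ) ≤ q := by exact_mod_cast hq
  set K : ℝ := ((q : ℝ) / 2 - 1) / ((q : ℝ) - 1) with hKdef
  have hK : 0 < K := div_pos (by linarith) (by linarith)
  have hterm : ∀ i ∈ S, (a i : ℝ) ^ 3 / d i ≤ (a i : ℝ) ^ 2 * K := by
    intro i hi
    have hd' : (0 : ℝ) < d i := by exact_mod_cast hd i hi
    rcases le_or_gt (a i) 0 with h | h
    · have h' : (a i : ℝ) ≤ 0 := by exact_mod_cast h
      refine le_trans (div_nonpos_of_nonpos_of_nonneg ?_ hd'.le) (by positivity)
      nlinarith [sq_nonneg (a i : ℝ)]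
    · have h2 : (a i) ^ 2 ≤ (q : ℤ) - 1 := hsq ▸ Finset.single_le_sum (fun j _ => sq_nonneg (a j)) hi
      have hle : a i ≤ (q : ℤ) - 2 := by
        by_contra hc
        have : (q : ℤ) - 1 ≤ a i := by omega
        have hq3 : (3 : ℤ) ≤ q := by exact_mod_cast hq
        nlinarith
      have hdq : (a i : ℝ) + q ≤ d i := by
        have : a i + (q : ℤ) ≤ d i := by
          rw [hdeg i hi]
          have : (1 : ℤ) ≤ b i := by exact_mod_cast hb i hi
          nlinarith
        exact_mod_cast this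
      have hle' : (a i : ℝ) ≤ (q : ℝ) - 2 := by exact_mod_cast hle
      have ha' : (0 : ℝ) < a i := by exact_mod_cast h
      rw [div_le_iff₀ hd', show (a i : ℝ) ^ 2 * K * d i = (a i : ℝ) ^ 2 * (K * d i) by ring,
        show (a i : ℝ) ^ 3 = (a i : ℝ) ^ 2 * a i by ring]
      refine mul_le_mul_of_nonneg_left (le_trans ?_ (mul_le_mul_of_nonneg_left hdq hK.le)) (sq_nonneg _)
      rw [hKdef, div_mul_eq_mul_div, le_div_iff₀ (by linarith)]
      nlinarith
  obtain ⟨j, hj, hj'⟩ : ∃ j ∈ S, a j < 0 := by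
    by_contra hne
    push Not at hne
    have : (0 : ℤ) ≤ ∑ i ∈ S, a i * d i := Finset.sum_nonneg fun i hi => mul_nonneg (hne i hi) (by positivity)
    omega
  calc ∑ i ∈ S, ((a i : ℝ) ^ 3 / d i) < ∑ i ∈ S, (a i : ℝ) ^ 2 * K := by
        refine Finset.sum_lt_sum hterm ⟨j, hj, ?_⟩
        have hd' : (0 : ℝ) < d j := by exact_mod_cast hd j hj
        have h' : (a j : ℝ) < 0 := by exact_mod_cast hj'
        refine lt_of_lt_of_le (div_neg_of_neg_of_pos ?_ hd') (by positivity)
        nlinarith [mul_neg_of_pos_of_neg (mul_pos_of_neg_of_neg h' h') h']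
    _ = (q : ℝ) / 2 - 1 := by
        rw [← Finset.sum_mul, show (∑ i ∈ S, (a i : ℝ) ^ 2) = (q : ℝ) - 1 by exact_mod_cast hsq, hKdef]
        field_simp [show (q : ℝ) - 1 ≠ 0 by linarith]

/-- Coefficients of the indicator of the regular elements, for characters in the principal block. -/
theorem sum_singular [Fintype G] {M : Ideal AlgInt} (hM : IsPModular p M) (P : Sylow p G) {x : G}
    (hx : orderOf x = p) (hconj : ∀ z : G, (∃ k : ℕ, orderOf z = p ^ k) → z ≠ 1 → IsConj x z)
    (hnpc : ∀ z : G, orderOf z = p →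
      HasNormalPComplement p ↥(Subgroup.centralizer ({z} : Set G)))
    (hdvd : Nat.card P ∣ Nat.card (Subgroup.centralizer ({x} : Set G)))
    [DecidablePred fun g : G => IsPRegular p g] {χ : IrrCharacter G} (hχ : χ ∈ principalBlock M G) :
    (Nat.card P : ℂ) * ∑ g : G, (if IsPRegular p g then 0 else conj ((χ : G → ℂ) g)) =
      (Nat.card G : ℂ) * conj ((χ : G → ℂ) x) := by
  classical
  have hp : p.Prime := Fact.out
  rw [sum_eq_sum_pPart_fibers hp (fun g => if IsPRegular p g then 0 else conj ((χ : G → ℂ) g))]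
  set C := Nat.card (Subgroup.centralizer ({x} : Set G)) with hC
  have hfib : ∀ z : G, (∃ k : ℕ, orderOf z = p ^ k) → z ≠ 1 →
      (Nat.card P : ℂ) * ∑ r : G with Commute z r ∧ IsPRegular p r,
        (if IsPRegular p (z * r) then 0 else conj ((χ : G → ℂ) (z * r))) =
      (C : ℂ) * conj ((χ : G → ℂ) x) := by
    intro z hz hz1
    have hxz := hconj z hz hz1
    have hzp : orderOf z = p := by
      obtain ⟨c, rfl⟩ := isConj_iff.mp hxz
      exact (orderOf_injective (MulAut.conj c).toMonoidHom (MulAut.conj c).injective x).trans hx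
    have hCz : Nat.card (Subgroup.centralizer ({z} : Set G)) = C :=
      (Char.card_centralizer_eq_of_isConj hxz).symm
    obtain ⟨N, hNO, hN, hNcard⟩ := regular_centralizer P (hCz.symm ▸ hdvd) (hnpc z hzp)
    letI : Fintype (Subgroup.centralizer ({z} : Set G)) := Fintype.ofFinite _
    have hval : ∀ r : G, Commute z r → IsPRegular p r →
        (χ : G → ℂ) (z * r) = (χ : G → ℂ) x := by
      intro r hc hr
      let r' : Subgroup.centralizer ({z} : Set G) :=
        ⟨r, Subgroup.mem_centralizer_singleton_iff.mpr hc.eq.symm⟩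
      have h := value_mul_pPrimeCore hM hz hχ (y := 1) (v := r')
        (by rw [orderOf_one]; exact hp.not_dvd_one)
        (by rw [one_mul, ← Subgroup.orderOf_coe]; exact hr) (hNO ((hN r').mp hr))
      rw [one_mul, OneMemClass.coe_one, mul_one] at h
      rw [show (χ : G → ℂ) (z * r) = (χ : G → ℂ) z from h]
      exact (IsClassFunction.eq_of_isConj (irr_classFunction χ) hxz).symm
    have hsing : ∀ r : G, Commute z r → IsPRegular p r → ¬ IsPRegular p (z * r) := by
      intro r hc hr hreg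
      refine hz1 (IsPPart.unique hp (isPPart_mul hc hz hr) ⟨z * r, one_mul _, Commute.one_left _,
        ⟨0, by rw [orderOf_one, pow_zero]⟩, hreg⟩)
    rw [Finset.sum_congr rfl (g := fun _ => conj ((χ : G → ℂ) x)) fun r hr => by
      obtain ⟨hc, hr'⟩ := (Finset.mem_filter.mp hr).2
      rw [if_neg (hsing r hc hr'), hval r hc hr'], Finset.sum_const, nsmul_eq_mul, ← mul_assoc]
    congr 1
    have hcard : ({r : G | Commute z r ∧ IsPRegular p r} : Finset G).card = Nat.card N := by
      rw [← Fintype.card_subtype, ← Nat.card_eq_fintype_card]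
      refine Nat.card_congr
        { toFun := fun r => ⟨⟨r.1, Subgroup.mem_centralizer_singleton_iff.mpr r.2.1.eq.symm⟩,
            (hN _).mp r.2.2⟩
          invFun := fun n => ⟨n.1.1, (Subgroup.mem_centralizer_singleton_iff.mp n.1.2).symm,
            (hN _).mpr n.2⟩
          left_inv := fun _ => rfl
          right_inv := fun _ => rfl }
    rw [hcard, ← hCz, ← hNcard]
    push_cast
    ring
  rw [← Finset.sum_erase_add _ _ (show (1 : G) ∈ ({x : G | ∃ k : ℕ, orderOf x = p ^ k} : Finset G) from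
    Finset.mem_filter.mpr ⟨Finset.mem_univ _, 0, by rw [orderOf_one, pow_zero]⟩),
    Finset.sum_eq_zero (s := ({r : G | Commute (1 : G) r ∧ IsPRegular p r} : Finset G)) (fun r hr => by
      rw [one_mul, if_pos (Finset.mem_filter.mp hr).2.2]), add_zero, Finset.mul_sum,
    Finset.sum_congr rfl (g := fun _ => (C : ℂ) * conj ((χ : G → ℂ) x)) fun z hz => by
      obtain ⟨h1, h2⟩ := Finset.mem_erase.mp hz
      exact hfib z (Finset.mem_filter.mp h2).2 h1, Finset.sum_const, nsmul_eq_mul, ← mul_assoc]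
  congr 1
  have hclass : (({x : G | ∃ k : ℕ, orderOf x = p ^ k} : Finset G).erase 1).card =
      (Subgroup.centralizer ({x} : Set G)).index := by
    rw [index_centralizer_eq_card, Nat.card_eq_fintype_card, Fintype.card_subtype]
    congr 1
    ext z
    simp only [Finset.mem_erase, Finset.mem_filter, Finset.mem_univ, true_and]
    refine ⟨fun h => hconj z h.2 h.1, fun h => ?_⟩
    obtain ⟨c, rfl⟩ := isConj_iff.mp h
    have := orderOf_injective (MulAut.conj c).toMonoidHom (MulAut.conj c).injective x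
    rw [MulEquiv.coe_toMonoidHom, MulAut.conj_apply] at this
    refine ⟨fun h1 => hp.ne_one ?_, 1, by rw [this, hx, pow_one]⟩
    rw [← hx, ← this, h1, orderOf_one]
  rw [hclass, ← card_centralizer_mul_index (G := G) x]
  push_cast
  ring

/-- The class of `x` and the count of regular products, through central characters. -/
theorem count_eq [Fintype G] {x : G} (hclass : ∀ z : G, IsConj x z ↔ orderOf z = p)
    [DecidablePred fun g : G => IsPRegular p g] :
    (((ordP p G).filter fun z => IsPRegular p (x * z)).card : ℂ) =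
      ((ordP p G).card : ℂ) * ∑ χ : IrrCharacter G,
        classInner (fun g => if IsPRegular p g then (1 : ℂ) else 0) (χ : G → ℂ) *
          ((χ : G → ℂ) x) ^ 2 / (χ : G → ℂ) 1 := by
  classical
  set f : G → ℂ := fun g => if IsPRegular p g then (1 : ℂ) else 0 with hf
  have hcf : IsClassFunction G f := fun g h => by
    have e : orderOf (h * g * h⁻¹) = orderOf g :=
      orderOf_injective (MulAut.conj h).toMonoidHom (MulAut.conj h).injective g
    exact if_congr (by rw [IsPRegular, IsPRegular, e]) rfl rfl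
  have hind : ∀ z : G, classInd x z = if z ∈ ordP p G then (1 : ℂ) else 0 := fun z =>
    if_congr ((hclass z).trans mem_ordP.symm) rfl rfl
  have hone : ∀ χ : IrrCharacter G, ∑ z ∈ ordP p G, (χ : G → ℂ) (z * x) =
      ((ordP p G).card : ℂ) * ((χ : G → ℂ) x) ^ 2 / (χ : G → ℂ) 1 := by
    intro χ
    have h := sum_mul_irr_mul (isClassFunction_classInd x) χ x
    simp only [hind, omega, ite_mul, one_mul, zero_mul, Finset.sum_ite_mem, Finset.univ_inter] at h
    rw [h, Finset.sum_congr rfl (g := fun _ => (χ : G → ℂ) x) fun z hz =>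
      (IsClassFunction.eq_of_isConj (irr_classFunction χ) ((hclass z).mpr (mem_ordP.mp hz))).symm,
      Finset.sum_const, nsmul_eq_mul]
    ring
  calc (((ordP p G).filter fun z => IsPRegular p (x * z)).card : ℂ)
      = ∑ z ∈ ordP p G, f (z * x) := by
        rw [← Finset.sum_boole]
        refine Finset.sum_congr rfl fun z _ => ?_
        rw [show f (z * x) = f (x * z) by
          rw [← hcf (z * x) x]; congr 1; group]
    _ = ∑ z ∈ ordP p G, ∑ χ : IrrCharacter G, classInner f (χ : G → ℂ) * (χ : G → ℂ) (z * x) := by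
        refine Finset.sum_congr rfl fun z _ => ?_
        conv_lhs => rw [Char.classFunction_expansion hcf]
        simp only [Finset.sum_apply, Pi.smul_apply, smul_eq_mul]
    _ = _ := by
        rw [Finset.sum_comm, Finset.mul_sum]
        refine Finset.sum_congr rfl fun χ _ => ?_
        rw [← Finset.mul_sum, hone χ]
        ring

/-- **The main statement.** -/
theorem eq_two [Fintype G] [IsSimpleGroup G] (P : Sylow p G) (hP : (P : Subgroup G) ≠ ⊥)
    (hPe : IsElementaryAbelian p (P : Subgroup G))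
    (hconj : ∀ x ∈ (P : Subgroup G), ∀ y ∈ (P : Subgroup G), x ≠ 1 → y ≠ 1 → ∃ g : G, g * x * g⁻¹ = y)
    (hb : ∀ x ∈ (P : Subgroup G), orderOf x = p →
      HasNormalPComplement p ↥(Subgroup.centralizer ({x} : Set G)))
    (hc : ∀ x y : G, orderOf x = p → orderOf y = p →
      IsPSolvable p ↥(Subgroup.closure ({x, y} : Set G))) : p = 2 := by
  classical
  by_contra hp2
  have hp : p.Prime := Fact.out
  have hp3 : 3 ≤ p := by have := hp.two_le; omega
  obtain ⟨⟨u₀, hu₀⟩, hu₀1⟩ := Subgroup.ne_bot_iff_exists_ne_one.mp hP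
  set x := u₀ with hxdef
  have hx1 : x ≠ 1 := fun h => hu₀1 (Subtype.ext h)
  have hxp : orderOf x = p := orderOf_eq_prime (hPe.2 x hu₀) hx1
  have hall : ∀ z : G, (∃ k : ℕ, orderOf z = p ^ k) → z ≠ 1 → IsConj x z := by
    rintro z ⟨k, hk⟩ hz
    have hpg : IsPGroup p (Subgroup.zpowers z) :=
      IsPGroup.of_card (n := k) (by rw [Nat.card_zpowers, hk])
    obtain ⟨T, hT⟩ := hpg.exists_le_sylow
    obtain ⟨g, hg⟩ := MulAction.exists_smul_eq G T P
    have hmem : g * z * g⁻¹ ∈ (P : Subgroup G) := by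
      rw [← hg, Sylow.coe_subgroup_smul, Subgroup.mem_pointwise_smul_iff_inv_smul_mem]
      simpa [MulAut.conj, MulAut.smul_def, mul_assoc] using hT (Subgroup.mem_zpowers z)
    obtain ⟨h, hh⟩ := hconj x hu₀ _ hmem hx1 fun e => hz (by simpa [mul_assoc] using congrArg (g⁻¹ * · * g) e)
    exact isConj_iff.mpr ⟨g⁻¹ * h, by
      rw [show g⁻¹ * h * x * (g⁻¹ * h)⁻¹ = g⁻¹ * (h * x * h⁻¹) * g by group, hh]; group⟩
  have hab : ∀ S : Sylow p G, ∀ a ∈ (S : Subgroup G), ∀ b ∈ (S : Subgroup G), a * b = b * a := by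
    intro S a ha b hb
    obtain ⟨g, hg⟩ := MulAction.exists_smul_eq G S P
    have hm : ∀ c ∈ (S : Subgroup G), g * c * g⁻¹ ∈ (P : Subgroup G) := fun c hc => by
      rw [← hg, Sylow.coe_subgroup_smul, Subgroup.mem_pointwise_smul_iff_inv_smul_mem]
      simpa [MulAut.conj, MulAut.smul_def, mul_assoc] using hc
    have := congrArg (g⁻¹ * · * g) (Subtype.ext_iff.mp
      (hPe.1.is_comm.comm ⟨_, hm a ha⟩ ⟨_, hm b hb⟩))
    simpa [mul_assoc] using this
  have hclass : ∀ z : G, IsConj x z ↔ orderOf z = p := fun z => ⟨fun h => by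
    obtain ⟨c, rfl⟩ := isConj_iff.mp h
    exact (orderOf_injective (MulAut.conj c).toMonoidHom (MulAut.conj c).injective x).trans hxp,
    fun h => hall z ⟨1, by rw [h, pow_one]⟩ fun e => hp.ne_one (by rw [← h, e, orderOf_one])⟩
  have hnpc : ∀ z : G, orderOf z = p →
      HasNormalPComplement p ↥(Subgroup.centralizer ({z} : Set G)) := by
    intro z hz
    obtain ⟨T, hT⟩ := (IsPGroup.of_card (n := 1) (G := Subgroup.zpowers z)
      (by rw [Nat.card_zpowers, hz, pow_one])).exists_le_sylow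
    obtain ⟨c, rfl⟩ := isConj_iff.mp ((hclass z).mpr hz)
    obtain ⟨S, N, hN, hSN⟩ := hb x hu₀ hxp
    set e : Subgroup.centralizer ({x} : Set G) ≃* Subgroup.centralizer ({c * x * c⁻¹} : Set G) :=
      ((MulAut.conj c).subgroupMap _).trans (MulEquiv.subgroupCongr (by
        ext w
        simp only [Subgroup.mem_map, Subgroup.mem_centralizer_singleton_iff]
        refine ⟨?_, fun h => ⟨c⁻¹ * w * c, ?_, by show c * (c⁻¹ * w * c) * c⁻¹ = w; group⟩⟩
        · rintro ⟨v, hv, rfl⟩
          show c * v * c⁻¹ * (c * x * c⁻¹) = c * x * c⁻¹ * (c * v * c⁻¹)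
          rw [show c * v * c⁻¹ * (c * x * c⁻¹) = c * (v * x) * c⁻¹ by group, hv]
          group
        · rw [show c⁻¹ * w * c * x = c⁻¹ * (w * (c * x * c⁻¹)) * c by group, h]
          group)) with he
    exact (Transfer.hasNormalPComplement_congr e).mp ⟨S, N, hN, hSN⟩
  have hdvd : Nat.card P ∣ Nat.card (Subgroup.centralizer ({x} : Set G)) :=
    Subgroup.card_dvd_of_le fun u hu => Subgroup.mem_centralizer_singleton_iff.mpr
      (Subtype.ext_iff.mp (hPe.1.is_comm.comm ⟨u, hu⟩ ⟨x, hu₀⟩))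
  obtain ⟨M, hM⟩ := exists_isPModular hp
  haveI := isPrime_of_isPModular hM
  set q := Nat.card P with hqdef
  have hq : 3 ≤ q := by
    have h := orderOf_dvd_natCard (⟨x, hu₀⟩ : (P : Subgroup G))
    rw [Subgroup.orderOf_mk, hxp] at h
    exact hp3.trans (Nat.le_of_dvd Nat.card_pos h)
  have hq0 : (q : ℂ) ≠ 0 := Nat.cast_ne_zero.mpr (by omega)
  have hG0 : (Nat.card G : ℂ) ≠ 0 := Nat.cast_ne_zero.mpr Nat.card_pos.ne'
  set f : G → ℂ := fun g => if IsPRegular p g then (1 : ℂ) else 0 with hf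
  have hfeq : f = regPart p (trivIrr G : G → ℂ) := by
    funext g
    by_cases h : IsPRegular p g
    · rw [regPart_of_regular h]; simp [hf, h, trivIrr]
    · rw [regPart_of_singular h]; simp [hf, h]
  have htriv : trivIrr G ∈ principalBlock M G := trivIrr_mem_principalBlock G
  -- the coefficients
  have hout : ∀ χ : IrrCharacter G, χ ∉ principalBlock M G → classInner f (χ : G → ℂ) = 0 :=
    fun χ hχ => by
      rw [hfeq]
      exact classInner_regPart_eq_zero hM (IsPBlock.isBlockUnion isPBlock_principalBlock) htriv hχ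
  have hin : ∀ χ : IrrCharacter G, χ ∈ principalBlock M G → classInner f (χ : G → ℂ) =
      (if trivIrr G = χ then 1 else 0) - (q : ℂ)⁻¹ * conj ((χ : G → ℂ) x) := by
    intro χ hχ
    have hs := sum_singular hM P hxp hall hnpc hdvd hχ
    rw [← Char.classInner_coe]
    simp only [classInner, hf, trivIrr]
    have e : ∀ g : G, (if IsPRegular p g then (1 : ℂ) else 0) * conj ((χ : G → ℂ) g) =
        1 * conj ((χ : G → ℂ) g) - (if IsPRegular p g then 0 else conj ((χ : G → ℂ) g)) := fun g => by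
      split <;> ring
    rw [Finset.sum_congr rfl fun g _ => e g, Finset.sum_sub_distrib, mul_sub]
    congr 1
    rw [← hqdef] at hs
    field_simp
    linear_combination hs
  -- values and degrees
  set S := (Finset.univ.filter fun χ : IrrCharacter G => χ ∈ principalBlock M G).erase (trivIrr G)
    with hS
  have hsplit : ∀ F : IrrCharacter G → ℂ, (∀ χ, χ ∉ principalBlock M G → F χ = 0) →
      ∑ χ : IrrCharacter G, F χ = F (trivIrr G) + ∑ χ ∈ S, F χ := by
    intro F hF
    rw [hS, Finset.add_sum_erase _ F (Finset.mem_filter.mpr ⟨Finset.mem_univ _, htriv⟩)]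
    exact (Finset.sum_filter_of_ne fun χ _ h => not_not.mp fun h' => h (hF χ h')).symm
  have hval : ∀ χ ∈ S, ∃ (a : ℤ) (d b : ℕ), (χ : G → ℂ) x = a ∧ (χ : G → ℂ) 1 = d ∧ 0 < d ∧ 0 < b ∧
      (d : ℤ) = a + b * (q : ℤ) := fun χ hχ =>
    exists_value hPe.1 hP hx1 χ (Finset.ne_of_mem_erase hχ) fun u hu hu1 =>
      (IsClassFunction.eq_of_isConj (irr_classFunction χ) (hall u (by
        exact ⟨1, by rw [pow_one]; exact orderOf_eq_prime (hPe.2 u hu) hu1⟩) hu1)).symm
  choose! a d b ha hd hd0 hb0 hdeg using hval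
  have hcS : ∀ χ ∈ S, classInner f (χ : G → ℂ) = -((q : ℂ)⁻¹ * (a χ : ℂ)) := by
    intro χ hχ
    obtain ⟨h1, h2⟩ := Finset.mem_erase.mp hχ
    rw [hin χ (Finset.mem_filter.mp h2).2, if_neg (Ne.symm h1), ha χ hχ, map_intCast]
    ring
  have hc1 : classInner f (trivIrr G : G → ℂ) = 1 - (q : ℂ)⁻¹ := by
    rw [hin _ htriv, if_pos rfl]
    simp [trivIrr]
  have hcf : IsClassFunction G f := hfeq ▸ isClassFunction_regPart (irr_classFunction _)
  -- norm
  have hsq : ∑ χ ∈ S, (a χ) ^ 2 = (q : ℤ) - 1 := by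
    have h1 : classInner f f = classInner f (trivIrr G : G → ℂ) := by
      simp only [classInner, hf, trivIrr]
      congr 1
      refine Finset.sum_congr rfl fun g _ => ?_
      split <;> simp
    conv_lhs at h1 => rw [Char.classFunction_expansion hcf, Char.classInner_sum_smul_sum_smul,
      hsplit _ (fun χ hχ => by rw [hout χ hχ, zero_mul]),
      Finset.sum_congr rfl (g := fun χ => (q : ℂ)⁻¹ ^ 2 * (a χ : ℂ) ^ 2) (fun χ hχ => by
        rw [hcS χ hχ]; simp; ring), ← Finset.mul_sum, hc1]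
    rw [hc1, map_sub, map_one, map_inv₀, map_natCast] at h1
    have h2 : (∑ χ ∈ S, (a χ : ℂ) ^ 2) = (q : ℂ) - 1 := by
      field_simp at h1
      linear_combination h1
    exact_mod_cast h2
  -- value at the identity
  have hcol : ∑ χ ∈ S, a χ * (d χ : ℤ) = -1 := by
    have h1 : f 1 = 1 := if_pos (by rw [IsPRegular, orderOf_one]; exact hp.not_dvd_one)
    rw [Char.classFunction_expansion hcf] at h1
    simp only [Finset.sum_apply, Pi.smul_apply, smul_eq_mul] at h1
    rw [hsplit _ (fun χ hχ => by rw [hout χ hχ, zero_mul]),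
      Finset.sum_congr rfl (g := fun χ => -(q : ℂ)⁻¹ * ((a χ : ℂ) * (d χ : ℂ))) (fun χ hχ => by
        rw [hcS χ hχ, hd χ hχ]; ring), ← Finset.mul_sum, hc1] at h1
    simp only [trivIrr, mul_one] at h1
    have h2 : (∑ χ ∈ S, (a χ : ℂ) * (d χ : ℂ)) = -1 := by
      field_simp at h1
      linear_combination -h1
    exact_mod_cast h2
  have hlt := cubes_lt S q hq a d b hd0 hb0 hdeg hsq hcol
  -- the count
  have hn := count_eq (p := p) hclass
  rw [hsplit _ (fun χ hχ => by rw [hout χ hχ, zero_mul, zero_div]),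
    Finset.sum_congr rfl (g := fun χ => -(q : ℂ)⁻¹ * (((a χ : ℝ) ^ 3 / (d χ : ℝ) : ℝ) : ℂ))
      (fun χ hχ => by rw [hcS χ hχ, ha χ hχ, hd χ hχ]; push_cast; ring),
    ← Finset.mul_sum, hc1] at hn
  simp only [trivIrr, one_pow, div_one, mul_one] at hn
  set n := ((ordP p G).filter fun z => IsPRegular p (x * z)).card with hndef
  set T := ∑ χ ∈ S, ((a χ : ℝ) ^ 3 / (d χ : ℝ)) with hT
  have hnR : (n : ℝ) = ((ordP p G).card : ℝ) * (1 - (q : ℝ)⁻¹ - (q : ℝ)⁻¹ * T) := by
    rw [← Complex.ofReal_inj]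
    push_cast at hn
    push_cast [hT]
    linear_combination hn
  have hle := card_regular_products hab hxp fun y hy => hc x y hxp hy
  rw [← hndef] at hle
  have h2n : 2 * n ≤ (ordP p G).card := le_trans (Nat.mul_le_mul_right n (by omega)) hle
  have hC0 : (0 : ℝ) < (ordP p G).card :=
    Nat.cast_pos.mpr (Finset.card_pos.mpr ⟨x, mem_ordP.mpr hxp⟩)
  have h2n' : 2 * (n : ℝ) ≤ (ordP p G).card := by exact_mod_cast h2n
  have hqR : (0 : ℝ) < q := by exact_mod_cast (show 0 < q by omega)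
  rw [hnR] at h2n'
  have : 2 * (1 - (q : ℝ)⁻¹ - (q : ℝ)⁻¹ * T) ≤ 1 := by nlinarith
  have e : (q : ℝ) * (2 * (1 - (q : ℝ)⁻¹ - (q : ℝ)⁻¹ * T)) = 2 * q - 2 - 2 * T := by field_simp
  nlinarith [mul_le_mul_of_nonneg_left this hqR.le]

end CfsgLib.PairPSolvable
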